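import Mathlib
import Groth.Prelude.Def_CAlgX

set_option autoImplicit false
universe u

namespace Groth.Agent.Lib.Helper18.DetSmooth

open Matrix

section Deriv
variable {k A : Type*} [CommRing k] [CommRing A] [Algebra k A]

/-- Product rule for a derivation of a commutative ring into itself. -/
theorem derivation_prod {ι : Type*} [DecidableEq ι] (D : Derivation k A A) (s : Finset ι)
    (a : ι → A) :
    D (∏ i ∈ s, a i) = ∑ j ∈ s, (∏ i ∈ s.erase j, a i) * D (a j) := by
  induction s using Finset.induction_on with
  | empty => simp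
  | insert x s hx ih =>
    rw [Finset.prod_insert hx, D.leibniz, ih, Finset.sum_insert hx, Finset.erase_insert hx,
      smul_eq_mul, smul_eq_mul, Finset.mul_sum, add_comm]
    congr 1
    refine Finset.sum_congr rfl fun j hj => ?_
    have hxj : x ≠ j := fun h => hx (h ▸ hj)
    rw [Finset.erase_insert_of_ne hxj, Finset.prod_insert (fun h => hx (Finset.mem_of_mem_erase h)),
      mul_assoc]

/-- The derivative of a determinant is the sum of the determinants with one column
differentiated. -/
theorem derivation_det {s : ℕ} (D : Derivation k A A) (M : Matrix (Fin s) (Fin s) A) :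
    D M.det = ∑ j, (M.updateCol j (fun i => D (M i j))).det := by
  classical
  simp only [Matrix.det_apply', map_sum]
  rw [Finset.sum_comm]
  refine Finset.sum_congr rfl fun σ _ => ?_
  rw [D.leibniz, D.map_intCast, smul_zero, add_zero, smul_eq_mul, derivation_prod, Finset.mul_sum]
  refine Finset.sum_congr rfl fun j _ => ?_
  congr 1
  rw [← Finset.mul_prod_erase Finset.univ _ (Finset.mem_univ j), Matrix.updateCol_self, mul_comm]
  congr 1
  refine Finset.prod_congr rfl fun i hi => ?_
  rw [Matrix.updateCol_ne (Finset.ne_of_mem_erase hi)]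

/-- The derivative of an `(r+1)`-minor lies in the ideal of `r`-minors. -/
theorem derivation_minor_mem {n m r : ℕ} (D : Derivation k A A) (X : Matrix (Fin n) (Fin m) A)
    (p : Fin (r + 1) → Fin n) (q : Fin (r + 1) → Fin m) :
    D (X.submatrix p q).det ∈ CAlgX.minorIdeal X r := by
  classical
  rw [derivation_det]
  refine Ideal.sum_mem _ fun j _ => ?_
  rw [Matrix.det_succ_column _ j]
  refine Ideal.sum_mem _ fun i _ => ?_
  refine Ideal.mul_mem_left _ _ ?_
  have : ((X.submatrix p q).updateCol j fun i => D ((X.submatrix p q) i j)).submatrix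
      i.succAbove j.succAbove = X.submatrix (p ∘ i.succAbove) (q ∘ j.succAbove) := by
    ext a b
    simp only [Matrix.submatrix_apply, Function.comp_apply]
    rw [Matrix.updateCol_ne (Fin.succAbove_ne j b)]
    rfl
  rw [this]
  exact Ideal.subset_span ⟨(p ∘ i.succAbove, q ∘ j.succAbove), rfl⟩

end Deriv

section Taylor
variable {k C : Type*} [CommRing k] [CommRing C] [Algebra k C] {ι : Type*} [Fintype ι]

open MvPolynomial in
/-- First-order Taylor expansion: two algebra maps from a polynomial ring which agree modulo a
square-zero ideal differ by the derivative. -/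
theorem taylor_sqZero (φ ψ : MvPolynomial ι k →ₐ[k] C) (N : Ideal C)
    (hN : ∀ a ∈ N, ∀ b ∈ N, a * b = 0) (hX : ∀ i, φ (X i) - ψ (X i) ∈ N) (h : MvPolynomial ι k) :
    φ h - ψ h ∈ N ∧ φ h - ψ h = ∑ i, φ (pderiv i h) * (φ (X i) - ψ (X i)) := by
  classical
  induction h using MvPolynomial.induction_on with
  | C a =>
    simp only [pderiv_C, map_zero, zero_mul, Finset.sum_const_zero]
    have : φ (MvPolynomial.C a) = ψ (MvPolynomial.C a) := by
      rw [← MvPolynomial.algebraMap_eq, AlgHom.commutes, AlgHom.commutes]
    rw [this, sub_self]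
    exact ⟨N.zero_mem, rfl⟩
  | add p q hp hq =>
    refine ⟨?_, ?_⟩
    · rw [map_add, map_add, add_sub_add_comm]; exact N.add_mem hp.1 hq.1
    · rw [map_add, map_add, add_sub_add_comm, hp.2, hq.2, ← Finset.sum_add_distrib]
      refine Finset.sum_congr rfl fun i _ => ?_
      rw [map_add, map_add, add_mul]
  | mul_X p j hp =>
    have e1 : φ (p * X j) - ψ (p * X j) =
        φ p * (φ (X j) - ψ (X j)) + (φ p - ψ p) * φ (X j) -
          (φ p - ψ p) * (φ (X j) - ψ (X j)) := by
      rw [map_mul, map_mul]; ring
    have e2 : (φ p - ψ p) * (φ (X j) - ψ (X j)) = 0 := hN _ hp.1 _ (hX j)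
    rw [e2, sub_zero] at e1
    refine ⟨?_, ?_⟩
    · rw [e1]
      exact N.add_mem (N.mul_mem_left _ (hX j)) (N.mul_mem_right _ hp.1)
    · rw [e1, hp.2, Finset.sum_mul]
      have : ∀ i, φ (pderiv i (p * X j)) * (φ (X i) - ψ (X i)) =
          φ (pderiv i p) * (φ (X i) - ψ (X i)) * φ (X j) +
            φ p * (φ (pderiv i (X j)) * (φ (X i) - ψ (X i))) := by
        intro i
        rw [Derivation.leibniz, smul_eq_mul, smul_eq_mul, map_add, map_mul, map_mul]
        ring
      simp only [this]
      rw [Finset.sum_add_distrib, add_comm]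
      congr 1
      rw [← Finset.mul_sum]
      congr 1
      rw [Finset.sum_eq_single j]
      · rw [pderiv_X_self, map_one, one_mul]
      · intro i _ hij
        rw [pderiv_X_of_ne (Ne.symm hij), map_zero, zero_mul]
      · intro h; exact absurd (Finset.mem_univ j) h

end Taylor

end Groth.Agent.Lib.Helper18.DetSmooth
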