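import Mathlib
import Groth.Agent.Lib.Helper18.Plucker.SFT

set_option autoImplicit false
universe u

namespace Groth.Agent.Lib.Helper18.DetSmooth

open Matrix

section Mat
variable {S : Type*} [CommRing S] {n m r : ℕ}

/-- All `(r+1)`-minors of a product of an `n × r` and an `r × m` matrix vanish. -/
theorem det_submatrix_mul_eq_zero (V : Matrix (Fin n) (Fin r) S) (U : Matrix (Fin r) (Fin m) S)
    (p : Fin (r + 1) → Fin n) (q : Fin (r + 1) → Fin m) :
    ((V * U).submatrix p q).det = 0 := by
  have : (V * U).submatrix p q = V.submatrix p id * U.submatrix id q := by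
    ext i j
    simp [Matrix.mul_apply]
  rw [this]
  exact Groth.Agent.Lib.Helper18.Plucker.det_mul_eq_zero_of_lt _ _

/-- Schur complement identity: if all `(r+1)`-minors of `M` vanish and the `r`-minor with rows `f`
and columns `g` is invertible, then `M = M[:,g] * M[f,g]⁻¹ * M[f,:]`. -/
theorem eq_mul_inv_mul_of_minors_zero (M : Matrix (Fin n) (Fin m) S) (f : Fin r → Fin n)
    (g : Fin r → Fin m)
    (hmin : ∀ (p : Fin (r + 1) → Fin n) (q : Fin (r + 1) → Fin m), (M.submatrix p q).det = 0)
    (Ainv : Matrix (Fin r) (Fin r) S) (hA : M.submatrix f g * Ainv = 1) :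
    M = M.submatrix id g * Ainv * M.submatrix f id := by
  ext a b
  have hA' : Ainv * M.submatrix f g = 1 := mul_eq_one_comm.mp hA
  let _ : Invertible (M.submatrix f g) := ⟨Ainv, hA', hA⟩
  have hdet : IsUnit (M.submatrix f g).det := by
    rw [← Matrix.isUnit_iff_isUnit_det]; exact isUnit_of_invertible _
  set e : Fin r ⊕ Fin 1 ≃ Fin (r + 1) := finSumFinEquiv with he
  have h1 : (Matrix.fromBlocks (M.submatrix f g) (M.submatrix f (fun _ : Fin 1 => b))
      (M.submatrix (fun _ : Fin 1 => a) g)
      (M.submatrix (fun _ : Fin 1 => a) (fun _ : Fin 1 => b))).det = 0 := by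
    have : Matrix.fromBlocks (M.submatrix f g) (M.submatrix f (fun _ : Fin 1 => b))
        (M.submatrix (fun _ : Fin 1 => a) g)
        (M.submatrix (fun _ : Fin 1 => a) (fun _ : Fin 1 => b)) =
        (M.submatrix (Sum.elim f (fun _ => a) ∘ e.symm)
          (Sum.elim g (fun _ => b) ∘ e.symm)).submatrix e e := by
      ext i j
      rcases i with i | i <;> rcases j with j | j <;> simp
    rw [this, Matrix.det_submatrix_equiv_self]
    exact hmin _ _
  rw [Matrix.det_fromBlocks₁₁] at h1
  have h2 := (hdet.mul_right_eq_zero).mp h1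
  rw [Matrix.det_unique] at h2
  simp only [Matrix.sub_apply, Matrix.submatrix_apply, sub_eq_zero] at h2
  rw [h2]
  simp only [Matrix.mul_apply, Matrix.submatrix_apply, id_eq]
  rfl

end Mat

end Groth.Agent.Lib.Helper18.DetSmooth
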