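import Groth.Agent.Lib.Helper18.DetSmooth.Smooth
import Groth.Agent.Lib.Helper18.DetSmooth.Deriv

set_option autoImplicit false
universe u

namespace Groth.Agent.Lib.Helper18.DetSmooth

open Matrix MvPolynomial W4bk4grassmannian

/-- A Cayley–Hamilton/Nakayama argument: in a Noetherian domain, if `s • I ≤ Q * I` with `I ≠ ⊥`
and `Q` prime, then `s ∈ Q`. -/
theorem mem_of_mul_le_mul {R : Type*} [CommRing R] [IsDomain R] [IsNoetherianRing R]
    (I Q : Ideal R) [Q.IsPrime] (hI : I ≠ ⊥) (s : R) (hs : ∀ t ∈ I, s * t ∈ Q * I) : s ∈ Q := by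
  obtain ⟨x, hxI, hx0⟩ := Submodule.exists_mem_ne_zero_of_ne_bot hI
  set f : Module.End R I := algebraMap R (Module.End R I) s with hf
  have hrange : LinearMap.range f ≤ Q • (⊤ : Submodule R I) := by
    rintro _ ⟨y, rfl⟩
    rw [Submodule.mem_smul_top_iff]
    have : ((f y : I) : R) = s * y := rfl
    rw [this, Ideal.smul_eq_mul]
    exact hs y y.2
  obtain ⟨p, hmonic, -, hcoeff, haeval⟩ :=
    LinearMap.exists_monic_and_natDegree_eq_and_coeff_mem_pow_and_aeval_eq_zero R f Q hrange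
  have h1 : p.eval s * x = 0 := by
    have h := congrArg (fun φ : Module.End R I => ((φ ⟨x, hxI⟩ : I) : R)) haeval
    simp only [hf, Polynomial.aeval_algebraMap_apply] at h
    exact h
  have h2 : p.eval s = 0 := (mul_eq_zero.mp h1).resolve_right hx0
  rw [Polynomial.eval_eq_sum_range, Finset.sum_range_succ, hmonic.coeff_natDegree, one_mul] at h2
  have h3 : ∑ i ∈ Finset.range p.natDegree, p.coeff i * s ^ i ∈ Q := by
    refine Ideal.sum_mem _ fun i hi => Q.mul_mem_right _ ?_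
    have hi' : p.natDegree - i ≠ 0 := by
      have := Finset.mem_range.mp hi; omega
    exact Ideal.pow_le_self hi' (hcoeff i)
  have h4 : s ^ p.natDegree ∈ Q := by
    have : s ^ p.natDegree = -∑ i ∈ Finset.range p.natDegree, p.coeff i * s ^ i :=
      eq_neg_of_add_eq_zero_right h2
    rw [this]; exact Q.neg_mem h3
  exact Ideal.IsPrime.mem_of_pow_mem inferInstance _ h4

section Sing
variable {k : Type u} [Field k] {n m r : ℕ}

theorem minorIdeal_ne_bot (hn : r + 1 ≤ n) (hm : r + 1 ≤ m) :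
    CAlgX.minorIdeal (genMatrix k n m) (r + 1) ≠ ⊥ := by
  intro h
  have hmem : ((genMatrix k n m).submatrix (Fin.castLE hn) (Fin.castLE hm)).det ∈
      CAlgX.minorIdeal (genMatrix k n m) (r + 1) :=
    Ideal.subset_span ⟨(Fin.castLE hn, Fin.castLE hm), rfl⟩
  rw [h, Ideal.mem_bot] at hmem
  have h1 := map_genMatrix (k := k) (Matrix.of fun (i : Fin n) (j : Fin m) =>
    if i.val = j.val then (1 : k) else 0) (Fin.castLE hn) (Fin.castLE hm)
  rw [hmem, map_zero] at h1
  have h2 : (Matrix.of fun (i : Fin n) (j : Fin m) =>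
      if i.val = j.val then (1 : k) else 0).submatrix (Fin.castLE hn) (Fin.castLE hm) = 1 := by
    ext i j
    simp [Matrix.one_apply, Fin.ext_iff]
  rw [h2, Matrix.det_one] at h1
  exact zero_ne_one h1

end Sing

section General
variable {k : Type u} [Field k] {R : Type*} [CommRing R] [Algebra k R] (I : Ideal R)
  (P : Ideal (R ⧸ I)) [P.IsPrime]

/-- The contraction of `P` to `R`. -/
abbrev Qc : Ideal R := P.comap (Ideal.Quotient.mk I)

/-- The quotient by `Q * I`. -/
abbrev C₀ : Type _ := R ⧸ (Qc I P * I)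

/-- The image of the complement of `Q`. -/
abbrev M₀ : Submonoid (C₀ I P) := (Qc I P).primeCompl.map (Ideal.Quotient.mk (Qc I P * I))

/-- The localisation of `R ⧸ Q I` at `Q`. -/
abbrev Cl : Type _ := Localization (M₀ I P)

/-- The canonical ring map. -/
noncomputable def canR : R →+* Cl I P :=
  (algebraMap (C₀ I P) (Cl I P)).comp (Ideal.Quotient.mk (Qc I P * I))

theorem canR_apply (t : R) :
    canR I P t = algebraMap (C₀ I P) (Cl I P) (Ideal.Quotient.mk (Qc I P * I) t) := rfl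

/-- The canonical map. -/
noncomputable def can : R →ₐ[k] Cl I P :=
  (IsScalarTower.toAlgHom k (C₀ I P) (Cl I P)).comp (Ideal.Quotient.mkₐ k (Qc I P * I))

theorem can_apply (t : R) : can (k := k) I P t = canR I P t := rfl

/-- The square-zero ideal. -/
noncomputable abbrev Nc : Ideal (Cl I P) := I.map (canR I P)

theorem canR_mul_eq_zero (t : R) (ht : t ∈ Qc I P) (ν : Cl I P) (hν : ν ∈ Nc I P) :
    canR I P t * ν = 0 := by
  refine Submodule.span_induction ?_ ?_ ?_ ?_ hν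
  · rintro _ ⟨i', hi', rfl⟩
    change canR I P t * canR I P i' = 0
    rw [← map_mul, canR_apply, Ideal.Quotient.eq_zero_iff_mem.mpr (Ideal.mul_mem_mul ht hi'),
      map_zero]
  · simp
  · intro x y _ _ hx hy; rw [mul_add, hx, hy, add_zero]
  · intro a x _ hx; rw [smul_eq_mul, mul_left_comm, hx, mul_zero]

theorem Nc_mul_eq_zero (hIQ : I ≤ Qc I P) (a : Cl I P) (ha : a ∈ Nc I P) (b : Cl I P)
    (hb : b ∈ Nc I P) : a * b = 0 := by
  refine Submodule.span_induction ?_ ?_ ?_ ?_ ha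
  · rintro _ ⟨i', hi', rfl⟩
    exact canR_mul_eq_zero I P i' (hIQ hi') b hb
  · simp
  · intro x y _ _ hx hy; rw [add_mul, hx, hy, add_zero]
  · intro a x _ hx; rw [smul_eq_mul, mul_assoc, hx, mul_zero]

theorem Nc_sq (hIQ : I ≤ Qc I P) : Nc I P ^ 2 = ⊥ := by
  rw [eq_bot_iff, pow_two, Ideal.mul_le]
  intro a ha b hb
  rw [Ideal.mem_bot]; exact Nc_mul_eq_zero I P hIQ a ha b hb

/-- The map `R ⧸ I → C ⧸ N`. -/
noncomputable def g₀ : (R ⧸ I) →ₐ[k] Cl I P ⧸ Nc I P :=
  Ideal.Quotient.liftₐ I ((Ideal.Quotient.mkₐ k (Nc I P)).comp (can I P)) (by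
    intro t ht
    rw [AlgHom.comp_apply, Ideal.Quotient.mkₐ_eq_mk, Ideal.Quotient.eq_zero_iff_mem]
    exact Ideal.mem_map_of_mem _ ht)

theorem g₀_mk (t : R) :
    g₀ (k := k) I P (Ideal.Quotient.mk I t) = Ideal.Quotient.mk (Nc I P) (can (k := k) I P t) := rfl

theorem g₀_units (y : P.primeCompl) : IsUnit (g₀ (k := k) I P y) := by
  obtain ⟨y, hy⟩ := y
  obtain ⟨s, rfl⟩ := Ideal.Quotient.mk_surjective y
  have hs : s ∉ Qc I P := hy
  have : IsUnit (can (k := k) I P s) := by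
    rw [can_apply, canR_apply]
    exact IsLocalization.map_units (Cl I P)
      (⟨Ideal.Quotient.mk (Qc I P * I) s, ⟨s, hs, rfl⟩⟩ : M₀ I P)
  rw [g₀_mk]
  exact this.map (Ideal.Quotient.mk (Nc I P))

/-- The map `(R ⧸ I)_P → C ⧸ N`. -/
noncomputable def gloc : Localization.AtPrime P →ₐ[k] Cl I P ⧸ Nc I P :=
  IsLocalization.liftAlgHom (A := k) (R := R ⧸ I) (M := P.primeCompl)
    (S := Localization.AtPrime P) (P := Cl I P ⧸ Nc I P) (f := g₀ I P) (g₀_units I P)

theorem not_formallySmooth_general [IsDomain R] [IsNoetherianRing R]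
    {ι : Type*} [Fintype ι] (e : MvPolynomial ι k →ₐ[k] R)
    {κ : Type*} [Fintype κ] (gen : κ → MvPolynomial ι k)
    (hgenI : I = Ideal.span (Set.range fun c => e (gen c))) (hI : I ≠ ⊥)
    (hder : ∀ c x, e (pderiv x (gen c)) ∈ Qc I P) :
    ¬ Algebra.FormallySmooth k (Localization.AtPrime P) := by
  intro hsm
  haveI hQp : (Qc I P).IsPrime := Ideal.comap_isPrime _ _
  have hIQ : I ≤ Qc I P := fun t ht => by
    rw [Ideal.mem_comap, Ideal.Quotient.eq_zero_iff_mem.mpr ht]; exact P.zero_mem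
  have hnil : IsNilpotent (Nc I P) := ⟨2, Nc_sq I P hIQ⟩
  set ψ := Algebra.FormallySmooth.lift (Nc I P) hnil (gloc (k := k) I P) with hψ
  have hψmk : ∀ x, Ideal.Quotient.mk (Nc I P) (ψ x) = gloc (k := k) I P x :=
    fun x => Algebra.FormallySmooth.mk_lift _ hnil _ x
  set σ : R →ₐ[k] Cl I P :=
    ψ.comp ((IsScalarTower.toAlgHom k (R ⧸ I) (Localization.AtPrime P)).comp
      (Ideal.Quotient.mkₐ k I)) with hσ
  have hσ_apply : ∀ t, σ t = ψ (algebraMap (R ⧸ I) (Localization.AtPrime P)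
      (Ideal.Quotient.mk I t)) := fun t => rfl
  have hdiff : ∀ t, can (k := k) I P t - σ t ∈ Nc I P := by
    intro t
    rw [← Ideal.Quotient.eq, hσ_apply, hψmk, gloc,
      IsLocalization.coe_liftAlgHom, IsLocalization.lift_eq]
    rfl
  have hσI : ∀ t ∈ I, σ t = 0 := by
    intro t ht
    rw [hσ_apply, Ideal.Quotient.eq_zero_iff_mem.mpr ht, map_zero, map_zero]
  have hgen : ∀ c, can (k := k) I P (e (gen c)) = 0 := by
    intro c
    obtain ⟨-, h2⟩ := taylor_sqZero ((can (k := k) I P).comp e) (σ.comp e) (Nc I P)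
      (Nc_mul_eq_zero I P hIQ) (fun i => hdiff (e (X i))) (gen c)
    simp only [AlgHom.comp_apply] at h2
    rw [hσI _ (hgenI ▸ Ideal.subset_span ⟨c, rfl⟩), sub_zero] at h2
    rw [h2]
    refine Finset.sum_eq_zero fun x _ => ?_
    exact canR_mul_eq_zero I P _ (hder c x) _ (hdiff (e (X x)))
  have hs : ∀ c, ∃ s, s ∉ Qc I P ∧ s * e (gen c) ∈ Qc I P * I := by
    intro c
    have h0 := hgen c
    rw [can_apply, canR_apply, IsLocalization.map_eq_zero_iff (M₀ I P)] at h0
    obtain ⟨⟨_, s, hs, rfl⟩, hc⟩ := h0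
    refine ⟨s, hs, ?_⟩
    rw [← Ideal.Quotient.eq_zero_iff_mem, map_mul]; exact hc
  choose sfun hsQ hsJ using hs
  have hsQ' : (∏ c, sfun c) ∉ Qc I P := by
    intro h
    rw [Ideal.IsPrime.prod_mem_iff] at h
    obtain ⟨c, -, h⟩ := h
    exact hsQ c h
  have hsI : ∀ t ∈ I, (∏ c, sfun c) * t ∈ Qc I P * I := by
    intro t ht
    rw [hgenI] at ht
    refine Submodule.span_induction ?_ ?_ ?_ ?_ ht
    · rintro _ ⟨c, rfl⟩
      classical
      have : (∏ c, sfun c) = (∏ c' ∈ Finset.univ.erase c, sfun c') * sfun c :=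
        (Finset.prod_erase_mul _ _ (Finset.mem_univ c)).symm
      rw [this, mul_assoc]; exact Ideal.mul_mem_left _ _ (hsJ c)
    · simp
    · intro x y _ _ hx hy; rw [mul_add]; exact Ideal.add_mem _ hx hy
    · intro a x _ hx; rw [smul_eq_mul, mul_left_comm]; exact Ideal.mul_mem_left _ _ hx
  exact hsQ' (mem_of_mul_le_mul I (Qc I P) hI _ hsI)

end General

section Sing2
variable {k : Type u} [Field k] {n m r : ℕ}

theorem not_formallySmooth_of_le (hn : r + 1 ≤ n) (hm : r + 1 ≤ m)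
    (P : Ideal (DetRing k n m r)) [P.IsPrime]
    (hP : (CAlgX.minorIdeal (genMatrix k n m) r).map
      (Ideal.Quotient.mk (CAlgX.minorIdeal (genMatrix k n m) (r + 1))) ≤ P) :
    ¬ Algebra.FormallySmooth k (Localization.AtPrime P) := by
  refine not_formallySmooth_general (CAlgX.minorIdeal (genMatrix k n m) (r + 1)) P
    (AlgHom.id k _)
    (fun fg : (Fin (r + 1) → Fin n) × (Fin (r + 1) → Fin m) =>
      ((genMatrix k n m).submatrix fg.1 fg.2).det) rfl (minorIdeal_ne_bot hn hm) ?_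
  intro fg x
  exact hP (Ideal.mem_map_of_mem _ (derivation_minor_mem (pderiv x) (genMatrix k n m) fg.1 fg.2))

end Sing2

end Groth.Agent.Lib.Helper18.DetSmooth
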