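import Groth.Agent.Lib.Helper18.DetSmooth.Mat

set_option autoImplicit false
universe u

namespace Groth.Agent.Lib.Helper18.DetSmooth

open Matrix MvPolynomial W4bk4grassmannian

section Smooth
variable (k : Type u) [Field k] (n m r : ℕ)

/-- The generic determinantal ring. -/
abbrev DetRing : Type u :=
  MvPolynomial (Fin n × Fin m) k ⧸ CAlgX.minorIdeal (genMatrix k n m) (r + 1)

/-- The generic matrix over the determinantal ring. -/
noncomputable def barMatrix : Matrix (Fin n) (Fin m) (DetRing k n m r) :=
  (genMatrix k n m).map (Ideal.Quotient.mk _)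

theorem barMatrix_minor (p : Fin (r + 1) → Fin n) (q : Fin (r + 1) → Fin m) :
    ((barMatrix k n m r).submatrix p q).det = 0 := by
  have : (barMatrix k n m r).submatrix p q =
      (Ideal.Quotient.mk (CAlgX.minorIdeal (genMatrix k n m) (r + 1))).mapMatrix
        ((genMatrix k n m).submatrix p q) := by
    ext i j; simp [barMatrix]
  rw [this, ← RingHom.map_det, Ideal.Quotient.eq_zero_iff_mem]
  exact Ideal.subset_span ⟨(p, q), rfl⟩

variable {k n m r}

/-- Evaluating a polynomial map on the generic matrix. -/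
theorem map_genMatrix {S : Type*} [CommRing S] [Algebra k S] (M : Matrix (Fin n) (Fin m) S)
    {s : ℕ} (p : Fin s → Fin n) (q : Fin s → Fin m) :
    aeval (fun ij : Fin n × Fin m => M ij.1 ij.2) ((genMatrix k n m).submatrix p q).det =
      (M.submatrix p q).det := by
  rw [AlgHom.map_det]
  congr 1
  ext i j
  simp [genMatrix]

theorem formallySmooth_away (f : Fin r → Fin n) (g : Fin r → Fin m) :
    Algebra.FormallySmooth k (Localization.Away
      (Ideal.Quotient.mk (CAlgX.minorIdeal (genMatrix k n m) (r + 1))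
        ((genMatrix k n m).submatrix f g).det)) := by
  set I := CAlgX.minorIdeal (genMatrix k n m) (r + 1) with hI
  set δ := Ideal.Quotient.mk I ((genMatrix k n m).submatrix f g).det with hδ
  apply Algebra.FormallySmooth.of_comp_surjective
  intro C _ _ N hN φ
  -- the image matrix in `C ⧸ N`
  set Y : Matrix (Fin n) (Fin m) (C ⧸ N) :=
    Matrix.of fun i j => φ (algebraMap _ _ (barMatrix k n m r i j)) with hY
  have hYmap : Y = (barMatrix k n m r).map
      (φ.toRingHom.comp (algebraMap (DetRing k n m r) (Localization.Away δ))) := by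
    ext i j; simp [hY]
  have hYmin : ∀ (p : Fin (r + 1) → Fin n) (q : Fin (r + 1) → Fin m),
      (Y.submatrix p q).det = 0 := by
    intro p q
    have : Y.submatrix p q = (φ.toRingHom.comp
        (algebraMap (DetRing k n m r) (Localization.Away δ))).mapMatrix
          ((barMatrix k n m r).submatrix p q) := by
      rw [hYmap]; ext i j; simp
    rw [this, ← RingHom.map_det, barMatrix_minor, map_zero]
  have hYdet : (Y.submatrix f g).det = φ (algebraMap _ _ δ) := by
    have : Y.submatrix f g = (φ.toRingHom.comp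
        ((algebraMap (DetRing k n m r) (Localization.Away δ)).comp (Ideal.Quotient.mk I))).mapMatrix
          ((genMatrix k n m).submatrix f g) := by
      ext i j; rfl
    rw [this, ← RingHom.map_det]
    rfl
  have hYunit : IsUnit (Y.submatrix f g).det := by
    rw [hYdet]
    exact (IsLocalization.map_units (Localization.Away δ)
      (⟨δ, Submonoid.mem_powers δ⟩ : Submonoid.powers δ)).map φ
  -- lifts
  set c : Matrix (Fin n) (Fin m) C :=
    Matrix.of fun i j => Function.surjInv Ideal.Quotient.mk_surjective (Y i j) with hc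
  have hcY : c.map (Ideal.Quotient.mk N) = Y := by
    ext i j
    simp only [hc, Matrix.map_apply, Matrix.of_apply]
    exact Function.surjInv_eq _ _
  have hNnil : IsNilpotent N := ⟨2, hN⟩
  have hcunit : IsUnit (c.submatrix f g).det := by
    rw [← IsNilpotent.isUnit_quotient_mk_iff hNnil, RingHom.map_det]
    have : (Ideal.Quotient.mk N).mapMatrix (c.submatrix f g) = Y.submatrix f g := by
      rw [← hcY]; ext i j; simp
    rw [this]; exact hYunit
  set Ainv := (c.submatrix f g)⁻¹ with hAinv
  have hA1 : c.submatrix f g * Ainv = 1 := Matrix.mul_nonsing_inv _ hcunit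
  set Dc : Matrix (Fin n) (Fin m) C := c.submatrix id g * Ainv * c.submatrix f id with hDc
  -- the lift on the polynomial ring
  set ψ₀ : MvPolynomial (Fin n × Fin m) k →ₐ[k] C :=
    aeval (fun ij : Fin n × Fin m => Dc ij.1 ij.2) with hψ₀
  have hker : ∀ a ∈ I, ψ₀ a = 0 := by
    intro a ha
    have : I ≤ RingHom.ker ψ₀.toRingHom := by
      rw [hI]; unfold CAlgX.minorIdeal
      rw [Ideal.span_le]
      rintro _ ⟨⟨p, q⟩, rfl⟩
      rw [SetLike.mem_coe, RingHom.mem_ker]
      change ψ₀ _ = 0
      rw [hψ₀, map_genMatrix, hDc, Matrix.mul_assoc]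
      exact det_submatrix_mul_eq_zero _ _ p q
    exact this ha
  set ψ₁ : DetRing k n m r →ₐ[k] C := Ideal.Quotient.liftₐ I ψ₀ hker with hψ₁
  have hψ₁δ : ψ₁ δ = (c.submatrix f g).det := by
    rw [hδ, hψ₁]
    change ψ₀ _ = _
    rw [hψ₀, map_genMatrix]
    congr 1
    have : Dc.submatrix f g = c.submatrix f g * Ainv * c.submatrix f g := by
      rw [hDc]; ext i j; simp [Matrix.mul_apply]
    rw [this, hA1, Matrix.one_mul]
  have hunits : ∀ y : Submonoid.powers δ, IsUnit (ψ₁ y) := by
    rintro ⟨y, j, rfl⟩
    rw [map_pow, hψ₁δ]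
    exact hcunit.pow j
  refine ⟨IsLocalization.liftAlgHom (M := Submonoid.powers δ) (f := ψ₁) hunits, ?_⟩
  -- check the lift
  apply AlgHom.coe_ringHom_injective
  apply IsLocalization.ringHom_ext (Submonoid.powers δ)
  apply Ideal.Quotient.ringHom_ext
  apply MvPolynomial.ringHom_ext
  · intro a
    simp
    have e1 : Ideal.Quotient.mk I (MvPolynomial.C a) = algebraMap k (DetRing k n m r) a := rfl
    rw [e1, ← IsScalarTower.algebraMap_apply, AlgHom.commutes, AlgHom.commutes]
    rfl
  · rintro ⟨i, j⟩
    simp only [RingHom.comp_apply, AlgHom.coe_toRingHom, AlgHom.comp_apply,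
      IsLocalization.coe_liftAlgHom, IsLocalization.lift_eq, Ideal.Quotient.mkₐ_eq_mk]
    have h1 : ψ₁ (Ideal.Quotient.mk I (X (i, j))) = Dc i j := by
      rw [hψ₁]; change ψ₀ _ = _; rw [hψ₀, aeval_X]
    have h2 : φ (algebraMap _ _ (Ideal.Quotient.mk I (X (i, j)))) = Y i j := by
      rfl
    change Ideal.Quotient.mk N (ψ₁ (Ideal.Quotient.mk I (X (i, j)))) = _
    rw [h1, h2]
    -- Schur identity in `C ⧸ N`
    have hS := eq_mul_inv_mul_of_minors_zero Y f g hYmin (Ainv.map (Ideal.Quotient.mk N)) (by
      have : Y.submatrix f g = (c.submatrix f g).map (Ideal.Quotient.mk N) := by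
        rw [← hcY]; ext i j; simp
      rw [this, ← Matrix.map_mul, hA1]
      ext i j
      simp [Matrix.one_apply])
    have hDmap : Dc.map (Ideal.Quotient.mk N) =
        Y.submatrix id g * Ainv.map (Ideal.Quotient.mk N) * Y.submatrix f id := by
      rw [hDc, Matrix.map_mul, Matrix.map_mul, ← hcY]
      rfl
    rw [← hDmap] at hS
    have := congrFun (congrFun hS i) j
    rw [this]
    rfl

end Smooth

end Groth.Agent.Lib.Helper18.DetSmooth
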